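import Groth.Prelude.Def_BT

/-!
# The `ℓ`-torsion of the layers of an `ℓ`-divisible group
-/

set_option autoImplicit false

universe u

open CategoryTheory MonoidalCategory CartesianMonoidalCategory MonObj AlgebraicGeometry

namespace Groth.Agent.BTKerLib

variable {S : Scheme.{u}} {ℓ h : ℕ} (G : BTGrp.ProBT ℓ S h)

theorem comp_pow' {T A B : Over S} [GrpObj B] (x : T ⟶ A) (f : A ⟶ B) (n : ℕ) : x ≫ (f ^ n) = (x ≫ f) ^ n := by
  simp [MonObj.comp_pow]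

theorem hom_pow {T A B : Over S} [GrpObj A] [GrpObj B] (x : T ⟶ A) (f : A ⟶ B) [IsMonHom f] (n : ℕ) :
    (x ^ n) ≫ f = (x ≫ f) ^ n := by
  simp [MonObj.pow_comp]

theorem hom_one {T A B : Over S} [GrpObj A] [GrpObj B] (f : A ⟶ B) [IsMonHom f] :
    (1 : T ⟶ A) ≫ f = 1 := by simp

theorem mono_of_isKernel {N A B : Over S} [GrpObj B] {i : N ⟶ A} {q : A ⟶ B} (hk : AlgGrp.IsKernel i q) : Mono i := by
  refine ⟨fun a b hab => hk.hom_ext hab (toUnit_unique _ _)⟩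

theorem mono_incl (ν : ℕ) : Mono (G.incl ν) := mono_of_isKernel (G.isKernel ν)

theorem exists_lift (ν : ℕ) {T : Over S} (x : T ⟶ G.G (ν + 1)) (hx : x ^ (ℓ ^ ν) = 1) :
    ∃ y : T ⟶ G.G ν, y ≫ G.incl ν = x := by
  have hk := G.isKernel ν
  refine ⟨hk.lift x (toUnit T) ?_, hk.lift_fst _ _ _⟩
  rw [comp_pow', Category.comp_id, hx]
  rfl

theorem incl_pow (ν : ℕ) : G.incl ν ^ (ℓ ^ ν) = 1 := by
  have h : G.incl ν ≫ (𝟙 (G.G (ν + 1)) ^ (ℓ ^ ν)) = toUnit _ ≫ η[G.G (ν + 1)] := (G.isKernel ν).w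
  rw [comp_pow', Category.comp_id] at h
  exact h

theorem one_torsion {T : Over S} (y : T ⟶ G.G 1) : y ^ ℓ = 1 := by
  haveI := mono_incl G 1
  rw [← cancel_mono (G.incl 1), hom_pow, hom_one]
  have h := incl_pow G 1
  rw [pow_one] at h
  rw [show (y ≫ G.incl 1) ^ ℓ = y ≫ (G.incl 1 ^ ℓ) from (comp_pow' _ _ _).symm, h]
  simp

theorem isKernel_iter (i : (t : ℕ) → (G.G 1 ⟶ G.G (t + 1))) (hi0 : i 0 = 𝟙 (G.G 1))
    (hi : ∀ t : ℕ, i (t + 1) = i t ≫ G.incl (t + 1)) (t : ℕ) :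
    Mono (i t) ∧ (∀ {T : Over S} (y : T ⟶ G.G 1), (y ≫ i t) ^ ℓ = 1) ∧
      ∀ {T : Over S} (x : T ⟶ G.G (t + 1)), x ^ ℓ = 1 → ∃ y, y ≫ i t = x := by
  induction t with
  | zero =>
    rw [hi0]
    exact ⟨inferInstance, fun y => by rw [Category.comp_id]; exact one_torsion G y, fun x _ => ⟨x, Category.comp_id x⟩⟩
  | succ t ih =>
    haveI := mono_incl G (t + 1)
    obtain ⟨hm, hpow, hlift⟩ := ih
    rw [hi]
    refine ⟨mono_comp _ _, fun y => ?_, fun {T} x hx => ?_⟩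
    · rw [← Category.assoc, ← hom_pow, hpow, hom_one]
    · obtain ⟨z, rfl⟩ := exists_lift G (t + 1) x (by rw [pow_succ', pow_mul, hx, one_pow])
      obtain ⟨y, rfl⟩ := hlift z (by rw [← cancel_mono (G.incl (t + 1)), hom_pow, hx, hom_one])
      exact ⟨y, (Category.assoc _ _ _).symm⟩

theorem isKernel_pow (i : (t : ℕ) → (G.G 1 ⟶ G.G (t + 1))) (hi0 : i 0 = 𝟙 (G.G 1))
    (hi : ∀ t : ℕ, i (t + 1) = i t ≫ G.incl (t + 1)) (t : ℕ) :
    AlgGrp.IsKernel (i t) (𝟙 (G.G (t + 1)) ^ ℓ) := by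
  obtain ⟨hm, hpow, hlift⟩ := isKernel_iter G i hi0 hi t
  haveI := hm
  have hw : i t ≫ (𝟙 (G.G (t + 1)) ^ ℓ) = toUnit _ ≫ η[G.G (t + 1)] := by
    rw [comp_pow', Category.comp_id]
    simpa using (hpow (𝟙 _)).trans (by simp [Hom.one_def] : (1 : G.G 1 ⟶ G.G (t + 1)) = toUnit _ ≫ η[G.G (t + 1)])
  have hex : ∀ s : CategoryTheory.Limits.PullbackCone (𝟙 (G.G (t + 1)) ^ ℓ) η[G.G (t + 1)],
      ∃ y, y ≫ i t = s.fst := fun s => by
    refine hlift s.fst ?_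
    have h := s.condition
    rw [comp_pow', Category.comp_id, toUnit_unique s.snd (toUnit _)] at h
    exact h
  choose l hl using hex
  exact IsPullback.of_isLimit' ⟨hw⟩ (CategoryTheory.Limits.PullbackCone.IsLimit.mk _ l hl
    (fun s => toUnit_unique _ _) fun s m hm _ => (cancel_mono (i t)).1 (hm.trans (hl s).symm))

theorem isKernel_proj (i : (t : ℕ) → (G.G 1 ⟶ G.G (t + 1))) (hi0 : i 0 = 𝟙 (G.G 1))
    (hi : ∀ t : ℕ, i (t + 1) = i t ≫ G.incl (t + 1)) (t : ℕ) :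
    AlgGrp.IsKernel (i t) (G.proj t) := by
  obtain ⟨hm, hpow, hlift⟩ := isKernel_iter G i hi0 hi t
  haveI := hm
  haveI := mono_incl G t
  have key : ∀ {T : Over S} (x : T ⟶ G.G (t + 1)), x ≫ G.proj t = 1 ↔ x ^ ℓ = 1 := fun {T} x => by
    rw [← cancel_mono (G.incl t), hom_one, Category.assoc, G.proj_incl, comp_pow', Category.comp_id]
  have hw : i t ≫ G.proj t = toUnit _ ≫ η[G.G t] := by
    have h := (key (i t)).2 (by simpa using hpow (𝟙 _))
    exact h.trans (Hom.one_def ..)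
  have hex : ∀ s : CategoryTheory.Limits.PullbackCone (G.proj t) η[G.G t], ∃ y, y ≫ i t = s.fst := fun s => by
    refine hlift s.fst ((key s.fst).1 ?_)
    have h := s.condition
    rw [toUnit_unique s.snd (toUnit _)] at h
    exact h
  choose l hl using hex
  exact IsPullback.of_isLimit' ⟨hw⟩ (CategoryTheory.Limits.PullbackCone.IsLimit.mk _ l hl
    (fun s => toUnit_unique _ _) fun s m hm _ => (cancel_mono (i t)).1 (hm.trans (hl s).symm))

end Groth.Agent.BTKerLib
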